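import Groth.Agent.GStarLib.Gamma
import Groth.Agent.Coherent.FiniteType
import Groth.Agent.TwistLib.TwistTilde

/-!
# Quasi-coherent modules on `Proj` are associated to graded modules
-/

set_option autoImplicit false
set_option linter.unusedSectionVars false
set_option backward.isDefEq.respectTransparency.types false
set_option maxHeartbeats 400000

universe u

open AlgebraicGeometry CategoryTheory TopologicalSpace Opposite
open Groth.Agent.Coherent Groth.Agent.PicLib

namespace Groth.Agent.GStarLib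

section sub

variable {A σ : Type u} [CommRing A] [SetLike σ A] [AddSubgroupClass σ A] {𝒜 : ℕ → σ} [GradedRing 𝒜]
  {M τ : Type u} [AddCommGroup M] [Module A M] [SetLike τ M] [AddSubgroupClass τ M] (ℳ : ℕ → τ)

/-- The induced grading of a submodule. -/
def subGrade (N : Submodule A M) (n : ℕ) : AddSubgroup N where
  carrier := {p | p.1 ∈ ℳ n}
  zero_mem' := zero_mem (ℳ n)
  add_mem' ha hb := add_mem ha hb
  neg_mem' ha := neg_mem ha

instance [SetLike.GradedSMul 𝒜 ℳ] (N : Submodule A M) : SetLike.GradedSMul 𝒜 (subGrade ℳ N) where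
  smul_mem {i j a p} ha hp := SetLike.GradedSMul.smul_mem (B := ℳ) ha hp

theorem decompose_mem_of_span [DirectSum.Decomposition ℳ] [SetLike.GradedSMul 𝒜 ℳ] {T : Set M}
    (hT : ∀ t ∈ T, ∃ d, t ∈ ℳ d) {p : M} (hp : p ∈ Submodule.span A T) (n : ℕ) :
    (DirectSum.decompose ℳ p n : M) ∈ Submodule.span A T := by
  classical
  induction hp using Submodule.span_induction generalizing n with
  | mem t ht =>
    obtain ⟨d, hd⟩ := hT t ht
    by_cases h : d = n
    · subst h
      rw [DirectSum.decompose_of_mem_same ℳ hd]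
      exact Submodule.subset_span ht
    · rw [DirectSum.decompose_of_mem_ne ℳ hd h]
      exact zero_mem _
  | zero => simp
  | add x y _ _ hx hy =>
    rw [DirectSum.decompose_add, DirectSum.add_apply, AddMemClass.coe_add]
    exact add_mem (hx n) (hy n)
  | smul a x hxs hx =>
    conv => enter [2]; rw [← DirectSum.sum_support_decompose 𝒜 a, ← DirectSum.sum_support_decompose ℳ x]
    rw [Finset.sum_smul, DirectSum.decompose_sum, DFinsupp.finsetSum_apply, AddSubmonoidClass.coe_finsetSum]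
    refine sum_mem fun i _ => ?_
    rw [Finset.smul_sum, DirectSum.decompose_sum, DFinsupp.finsetSum_apply, AddSubmonoidClass.coe_finsetSum]
    refine sum_mem fun j _ => ?_
    have hm := SetLike.GradedSMul.smul_mem (A := 𝒜) (B := ℳ) (DirectSum.decompose 𝒜 a i).2 (DirectSum.decompose ℳ x j).2
    by_cases h : i +ᵥ j = n
    · subst h
      rw [DirectSum.decompose_of_mem_same ℳ hm]
      exact Submodule.smul_mem _ _ (hx j)
    · rw [DirectSum.decompose_of_mem_ne ℳ hm h]
      exact zero_mem _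

theorem exists_decomposition_span [DirectSum.Decomposition ℳ] [SetLike.GradedSMul 𝒜 ℳ] {T : Set M}
    (hT : ∀ t ∈ T, ∃ d, t ∈ ℳ d) :
    Nonempty (DirectSum.Decomposition (subGrade ℳ (Submodule.span A T))) := by
  classical
  refine ⟨decompositionOfComp (subGrade ℳ (Submodule.span A T)) (fun n => AddMonoidHom.mk'
    (fun p => ⟨⟨_, decompose_mem_of_span (𝒜 := 𝒜) ℳ hT p.2 n⟩, (DirectSum.decompose ℳ p.1 n).2⟩)
    fun p q => Subtype.ext (Subtype.ext (by
      show (DirectSum.decompose ℳ (p.1 + q.1) n : M) = _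
      rw [DirectSum.decompose_add, DirectSum.add_apply, AddMemClass.coe_add]
      rfl))) (fun n p => Subtype.ext (Subtype.ext (DirectSum.decompose_of_mem_same ℳ p.2)))
    (fun n j p h => Subtype.ext (Subtype.ext (DirectSum.decompose_of_mem_ne ℳ p.2 h))) fun p => ?_⟩
  refine ⟨(DirectSum.decompose ℳ p.1).support, fun n hn => Subtype.ext (Subtype.ext ?_), Subtype.ext ?_⟩
  · show (DirectSum.decompose ℳ p.1 n : M) = 0
    rw [DFinsupp.notMem_support_iff.1 hn, ZeroMemClass.coe_zero]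
  · rw [Submodule.coe_sum]
    exact DirectSum.sum_support_decompose ℳ p.1

end sub

section datum

variable {A σ : Type u} [CommRing A] [SetLike σ A] [AddSubgroupClass σ A] {𝒜 : ℕ → σ} [GradedRing 𝒜]
  {F : (Proj 𝒜).Modules} [Coh.IsQCoh F] {s : Set A} [Finite s] {hs1 : ∀ g : s, g.1 ∈ 𝒜 1}

/-- A finitely generated graded module with the same sheaf, for `F` of finite type. -/
theorem exists_finite_datum (hFT : CohB1.IsFT F) (hcov : ∀ x : Proj 𝒜, ∃ g : s, x ∈ Proj.basicOpen 𝒜 g.1) :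
    ∃ T : Set (gammaStar F hs1), T.Finite ∧ ∃ _ : DirectSum.Decomposition (subGrade (grade F hs1) (Submodule.span A T)),
      IsGammaDatum F s hs1 (ℳ := subGrade (grade F hs1) (Submodule.span A T))
        (fun g n => (ev F hs1 g n).comp (AddMonoidHom.mk' (fun p => ⟨p.1.1, p.2⟩) fun _ _ => rfl)) := by
  classical
  cases nonempty_fintype s
  have H := isGammaDatum (F := F) (hs1 := hs1) hcov
  have hfin : ∀ g : s, Module.Finite Γ(Proj 𝒜, Proj.basicOpen 𝒜 g.1) Γ(F, Proj.basicOpen 𝒜 g.1) := fun g =>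
    finite_sections F (locallyFinGen_of_isFT F hFT) (Proj.isAffineOpen_basicOpen 𝒜 g.1 (hs1 g) one_pos)
  choose W hW using fun g : s => (hfin g).fg_top
  choose N m hm using fun (g : s) (w : W g) => H.surj g w.1
  let T : Set (gammaStar F hs1) := Set.range fun x : (Σ g : s, {w // w ∈ W g}) => ((m x.1 x.2 : grade F hs1 _) : gammaStar F hs1)
  obtain ⟨dec⟩ := exists_decomposition_span (𝒜 := 𝒜) (grade F hs1) (T := T) (by
    rintro _ ⟨x, rfl⟩
    exact ⟨_, (m x.1 x.2).2⟩)
  refine ⟨T, Set.finite_range _, dec, hcov, fun g i n a p => H.ev_smul g i n a ⟨p.1.1, p.2⟩,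
    fun g h U hg hh n p => H.ev_change g h U hg hh n ⟨p.1.1, p.2⟩, fun g w => ?_, fun g n p hp => ?_⟩
  · have hw : w ∈ Submodule.span Γ(Proj 𝒜, Proj.basicOpen 𝒜 g.1) (W g : Set _) := by rw [hW g]; trivial
    suffices h : ∃ (n : ℕ) (q : grade F hs1 n), q.1 ∈ Submodule.span A T ∧ ev F hs1 g n q = w by
      obtain ⟨n, q, hq, he⟩ := h
      exact ⟨n, ⟨⟨q.1, hq⟩, q.2⟩, he⟩
    induction hw using Submodule.span_induction with
    | mem x hx => exact ⟨_, m g ⟨x, hx⟩, Submodule.subset_span ⟨⟨g, x, hx⟩, rfl⟩, hm g ⟨x, hx⟩⟩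
    | zero => exact ⟨0, 0, zero_mem _, map_zero _⟩
    | add x y _ _ hx hy =>
      obtain ⟨a, p, hp, rfl⟩ := hx
      obtain ⟨b, q, hq, rfl⟩ := hy
      have hg : ∀ k, g.1 ^ k ∈ 𝒜 k := fun k => by simpa using TwistLib.G.pow_mem_deg (hs1 g) k
      have hq' : g.1 ^ a • q.1 ∈ grade F hs1 (b + a) := by
        rw [add_comm b a]; exact SetLike.GradedSMul.smul_mem (hg a) q.2
      refine ⟨b + a, ⟨g.1 ^ b • p.1, SetLike.GradedSMul.smul_mem (hg b) p.2⟩ + ⟨g.1 ^ a • q.1, hq'⟩,
        add_mem (Submodule.smul_mem _ _ hp) (Submodule.smul_mem _ _ hq), ?_⟩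
      rw [map_add]
      refine congrArg₂ (· + ·) ((H.ev_smul g b a ⟨_, hg b⟩ p).trans (by rw [fr_self_pow, one_smul])) ?_
      exact (ev_cast (ev := ev F hs1) (g := g) (⟨_, hq'⟩ : grade F hs1 (b + a))
        (⟨g.1 ^ a • q.1, SetLike.GradedSMul.smul_mem (hg a) q.2⟩ : grade F hs1 (a + b)) (by omega) rfl).trans
          ((H.ev_smul g a b ⟨_, hg a⟩ q).trans (by rw [fr_self_pow, one_smul]))
    | smul c x _ hx =>
      obtain ⟨b, p, hp, rfl⟩ := hx
      obtain ⟨k, a, rfl⟩ := exists_eq_fr (hs1 g) c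
      exact ⟨k + b, ⟨a.1 • p.1, SetLike.GradedSMul.smul_mem a.2 p.2⟩, Submodule.smul_mem _ _ hp,
        H.ev_smul g k b a p⟩
  · obtain ⟨K, hK⟩ := H.kill g n ⟨p.1.1, p.2⟩ hp
    exact ⟨K, Subtype.ext hK⟩

end datum

section algebra

variable {R A : Type u} [CommRing R] [CommRing A] [Algebra R A] {𝒜 : ℕ → Submodule R A} [GradedAlgebra 𝒜]
  {F : (Proj 𝒜).Modules} {s : Set A} {hs1 : ∀ g : s, g.1 ∈ 𝒜 1}

/-- Present a datum over `R`. -/
theorem exists_tilde_iso_of_datum [Coh.IsQCoh F] {M τ : Type u} [AddCommGroup M] [Module A M] [SetLike τ M]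
    [AddSubgroupClass τ M] {ℳ : ℕ → τ} [DirectSum.Decomposition ℳ] [SetLike.GradedSMul 𝒜 ℳ]
    {ev : ∀ (g : s) (n : ℕ), ℳ n →+ Γ(F, Proj.basicOpen 𝒜 g.1)} (H : IsGammaDatum F s hs1 ev) :
    ∃ (_ : Module R M) (_ : IsScalarTower R A M) (ℳ' : ℕ → Submodule R M) (_ : DirectSum.Decomposition ℳ')
      (_ : SetLike.GradedSMul 𝒜 ℳ'), Nonempty (GrTilde.tilde 𝒜 ℳ' 0 ≅ F) := by
  classical
  letI : Module R M := Module.compHom M (algebraMap R A)
  haveI : IsScalarTower R A M := IsScalarTower.of_algebraMap_smul fun _ _ => rfl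
  let ℳ' : ℕ → Submodule R M := fun n =>
    { carrier := {p | p ∈ ℳ n}
      zero_mem' := zero_mem (ℳ n)
      add_mem' := fun ha hb => add_mem ha hb
      smul_mem' := fun r p hp => by
        have h := SetLike.GradedSMul.smul_mem (B := ℳ) (SetLike.algebraMap_mem_graded 𝒜 r) hp
        rwa [show (0 : ℕ) +ᵥ n = n from zero_add n] at h }
  haveI : SetLike.GradedSMul 𝒜 ℳ' := ⟨fun {i j a p} ha hp => SetLike.GradedSMul.smul_mem (B := ℳ) ha hp⟩
  letI dec : DirectSum.Decomposition ℳ' := decompositionOfComp ℳ'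
    (fun n => AddMonoidHom.mk' (fun p => ⟨(DirectSum.decompose ℳ p n : M), (DirectSum.decompose ℳ p n).2⟩) fun p q =>
      Subtype.ext (by
        show (DirectSum.decompose ℳ (p + q) n : M) = _
        rw [DirectSum.decompose_add, DirectSum.add_apply, AddMemClass.coe_add]
        rfl))
    (fun n p => Subtype.ext (DirectSum.decompose_of_mem_same ℳ p.2))
    (fun n j p h => Subtype.ext (DirectSum.decompose_of_mem_ne ℳ p.2 h))
    fun p => ⟨(DirectSum.decompose ℳ p).support, fun n hn => Subtype.ext (by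
      show (DirectSum.decompose ℳ p n : M) = 0
      rw [DFinsupp.notMem_support_iff.1 hn, ZeroMemClass.coe_zero]), DirectSum.sum_support_decompose ℳ p⟩
  refine ⟨inferInstance, inferInstance, ℳ', dec, inferInstance, ?_⟩
  have H' : IsGammaDatum F s hs1 (ℳ := ℳ') (fun g n => (ev g n).comp
      (AddMonoidHom.mk' (fun p => ⟨p.1, p.2⟩) fun _ _ => rfl)) :=
    ⟨H.cover, fun g i n a p => H.ev_smul g i n a ⟨p.1, p.2⟩,
      fun g h U hg hh n p => H.ev_change g h U hg hh n ⟨p.1, p.2⟩,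
      fun g w => by obtain ⟨n, p, hp⟩ := H.surj g w; exact ⟨n, ⟨p.1, p.2⟩, hp⟩,
      fun g n p hp => H.kill g n ⟨p.1, p.2⟩ hp⟩
  exact nonempty_iso H'

theorem cover_of_span (hs : (HomogeneousIdeal.irrelevant 𝒜).toIdeal = Ideal.span s) (x : Proj 𝒜) :
    ∃ g : s, x ∈ Proj.basicOpen 𝒜 g.1 := by
  by_contra! h
  exact x.not_irrelevant_le (show (HomogeneousIdeal.irrelevant 𝒜).toIdeal ≤ x.asHomogeneousIdeal.toIdeal from
    hs ▸ Ideal.span_le.mpr fun g hg => by simpa using h ⟨g, hg⟩)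

end algebra

end Groth.Agent.GStarLib
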