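import Groth.Agent.TwistLib.G.QCoh
import Groth.Agent.TwistLib.G.TwistBasics
import Groth.Agent.PicLib.Invertible
import Groth.Agent.QCohLoc.Basic

/-!
# Fractions with denominators in degree one on the standard opens of `Proj`
-/

set_option autoImplicit false
set_option linter.unusedSectionVars false
set_option backward.isDefEq.respectTransparency.types false

universe u

open AlgebraicGeometry CategoryTheory TopologicalSpace Opposite HomogeneousLocalization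
open Groth.Agent.Coherent Groth.Agent.PicLib

namespace Groth.Agent.GStarLib

variable {A σ : Type u} [CommRing A] [SetLike σ A] [AddSubgroupClass σ A] {𝒜 : ℕ → σ} [GradedRing 𝒜]

/-- Equality of functions on `Proj` from equality of values. -/
theorem section_ext_val {W : (Proj 𝒜).Opens} {a b : Γ(Proj 𝒜, W)}
    (h : ∀ x : W, ((show GrTwist.O (𝒜 := 𝒜) (op W) from a).1 x).val =
      ((show GrTwist.O (𝒜 := 𝒜) (op W) from b).1 x).val) : a = b :=
  Subtype.ext (funext fun x => HomogeneousLocalization.val_injective _ (h x))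

variable {f : A} (hf : f ∈ 𝒜 1)

/-- The function `a / f ^ n` on `D₊(f)`. -/
noncomputable def fr {n : ℕ} (a : 𝒜 n) : Γ(Proj 𝒜, Proj.basicOpen 𝒜 f) :=
  (Proj.awayToSection 𝒜 f).hom (Away.mk 𝒜 hf n a.1 (by simpa using a.2))

theorem fr_val {n : ℕ} (a : 𝒜 n) (x : ProjectiveSpectrum.basicOpen 𝒜 f) :
    ((show GrTwist.O (𝒜 := 𝒜) (op (ProjectiveSpectrum.basicOpen 𝒜 f)) from fr hf a).1 x).val =
      Localization.mk a.1 ⟨f ^ n, Submonoid.pow_mem _ x.2 n⟩ :=
  TwistLib.G.val_awayToSection_mk hf n a.1 _ x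

theorem res_val {U W : (Proj 𝒜).Opens} (h : W ≤ U) (c : Γ(Proj 𝒜, U)) (x : W) :
    (show GrTwist.O (𝒜 := 𝒜) (op W) from res h c).1 x =
      (show GrTwist.O (𝒜 := 𝒜) (op U) from c).1 ⟨x.1, h x.2⟩ := rfl

theorem mul_val {U : (Proj 𝒜).Opens} (a b : Γ(Proj 𝒜, U)) (x : U) :
    (show GrTwist.O (𝒜 := 𝒜) (op U) from a * b).1 x =
      (show GrTwist.O (𝒜 := 𝒜) (op U) from a).1 x * (show GrTwist.O (𝒜 := 𝒜) (op U) from b).1 x := rfl

theorem add_val {U : (Proj 𝒜).Opens} (a b : Γ(Proj 𝒜, U)) (x : U) :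
    (show GrTwist.O (𝒜 := 𝒜) (op U) from a + b).1 x =
      (show GrTwist.O (𝒜 := 𝒜) (op U) from a).1 x + (show GrTwist.O (𝒜 := 𝒜) (op U) from b).1 x := rfl

theorem fr_add {n : ℕ} (a b : 𝒜 n) : fr hf (a + b) = fr hf a + fr hf b := by
  refine section_ext_val fun x => ?_
  rw [fr_val, add_val, HomogeneousLocalization.val_add, fr_val, fr_val, Localization.add_mk_self]
  rfl

theorem fr_zero {n : ℕ} : fr hf (0 : 𝒜 n) = 0 := by
  have h := fr_add hf (0 : 𝒜 n) 0
  rwa [add_zero, left_eq_add] at h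

theorem fr_mul {i j : ℕ} (a : 𝒜 i) (b : 𝒜 j) :
    fr hf a * fr hf b = fr hf (⟨a.1 * b.1, SetLike.mul_mem_graded a.2 b.2⟩ : 𝒜 (i + j)) := by
  refine section_ext_val fun x => ?_
  rw [fr_val, mul_val, HomogeneousLocalization.val_mul, fr_val, fr_val, Localization.mk_mul]
  exact Localization.mk_eq_mk_iff.2 (Localization.r_iff_exists.2 ⟨1, by simp [pow_add]⟩)

theorem fr_one : fr hf (⟨1, SetLike.GradedOne.one_mem⟩ : 𝒜 0) = 1 := by
  refine section_ext_val fun x => ?_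
  rw [fr_val]
  refine Eq.trans ?_ (HomogeneousLocalization.val_one).symm
  rw [← Localization.mk_one]
  exact Localization.mk_eq_mk_iff.2 (Localization.r_iff_exists.2 ⟨1, by simp⟩)

theorem fr_self : fr hf (⟨f, hf⟩ : 𝒜 1) = 1 := by
  refine section_ext_val fun x => ?_
  rw [fr_val]
  refine Eq.trans ?_ (HomogeneousLocalization.val_one).symm
  rw [← Localization.mk_one]
  exact Localization.mk_eq_mk_iff.2 (Localization.r_iff_exists.2 ⟨1, by simp⟩)

theorem fr_pow {i : ℕ} (a : 𝒜 i) (k : ℕ) :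
    fr hf a ^ k = fr hf (⟨a.1 ^ k, TwistLib.G.pow_mem_deg a.2 k⟩ : 𝒜 (k * i)) := by
  refine section_ext_val fun x => ?_
  induction k with
  | zero =>
    rw [fr_val, pow_zero]
    refine HomogeneousLocalization.val_one.trans ?_
    rw [← Localization.mk_one]
    exact Localization.mk_eq_mk_iff.2 (Localization.r_iff_exists.2 ⟨1, by simp⟩)
  | succ k ih =>
    rw [pow_succ, mul_val, HomogeneousLocalization.val_mul, ih, fr_val, fr_val, fr_val, Localization.mk_mul]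
    exact Localization.mk_eq_mk_iff.2 (Localization.r_iff_exists.2 ⟨1, by simp [Nat.succ_mul, pow_add, pow_succ]⟩)

theorem fr_self_pow (k : ℕ) :
    fr hf (⟨f ^ k, by simpa using TwistLib.G.pow_mem_deg hf k⟩ : 𝒜 k) = 1 := by
  refine section_ext_val fun x => ?_
  rw [fr_val]
  refine Eq.trans ?_ (HomogeneousLocalization.val_one).symm
  rw [← Localization.mk_one]
  exact Localization.mk_eq_mk_iff.2 (Localization.r_iff_exists.2 ⟨1, by simp⟩)

/-- Change of denominator. -/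
theorem res_fr_change {g : A} (hg : g ∈ 𝒜 1) {W : (Proj 𝒜).Opens} (hW : W ≤ Proj.basicOpen 𝒜 f)
    (hW' : W ≤ Proj.basicOpen 𝒜 g) {i : ℕ} (a : 𝒜 i) :
    res hW' (fr hg a) * res hW (fr hf (⟨g, hg⟩ : 𝒜 1)) ^ i = res hW (fr hf a) := by
  rw [← map_pow, fr_pow]
  refine section_ext_val fun x => ?_
  rw [mul_val, HomogeneousLocalization.val_mul, res_val, res_val, res_val, fr_val, fr_val, fr_val, Localization.mk_mul]
  exact Localization.mk_eq_mk_iff.2 (Localization.r_iff_exists.2 ⟨1, by simp; ring⟩)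

theorem basicOpen_fr {i : ℕ} (a : 𝒜 i) :
    (Proj 𝒜).basicOpen (fr hf a) = Proj.basicOpen 𝒜 f ⊓ Proj.basicOpen 𝒜 a.1 :=
  (TwistLib.G.basicOpen_away hf i a.1 _).trans (Proj.basicOpen_mul 𝒜 f a.1)

theorem exists_eq_fr (c : Γ(Proj 𝒜, Proj.basicOpen 𝒜 f)) : ∃ (n : ℕ) (a : 𝒜 n), fr hf a = c := by
  obtain ⟨z, rfl⟩ := (ConcreteCategory.bijective_of_isIso (Proj.basicOpenIsoAway 𝒜 f hf one_pos).hom).2 c
  obtain ⟨n, a, ha, rfl⟩ := Away.mk_surjective 𝒜 hf z
  exact ⟨n, ⟨a, by simpa using ha⟩, rfl⟩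

theorem fr_congr {i j : ℕ} (a : 𝒜 i) (b : 𝒜 j) (hij : i = j) (h : a.1 = b.1) : fr hf a = fr hf b := by
  subst hij
  rw [Subtype.ext h]

/-- Standard opens inside `D₊(f)` form a basis near each point. -/
theorem exists_fr_basicOpen {x : Proj 𝒜} {V : (Proj 𝒜).Opens} (hxV : x ∈ V) (hx : x ∈ Proj.basicOpen 𝒜 f) :
    ∃ (j : ℕ) (a : 𝒜 j), x ∈ (Proj 𝒜).basicOpen (fr hf a) ∧ (Proj 𝒜).basicOpen (fr hf a) ≤ V := by
  obtain ⟨c, hle, hxc⟩ := (Proj.isAffineOpen_basicOpen 𝒜 f hf one_pos).exists_basicOpen_le ⟨x, hxV⟩ hx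
  obtain ⟨j, a, rfl⟩ := exists_eq_fr hf c
  exact ⟨j, a, hxc, hle⟩

end Groth.Agent.GStarLib
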