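import Groth.Agent.GStarLib.Iso
import Mathlib.Algebra.Polynomial.Module.Basic
import Mathlib.Algebra.DirectSum.Ring

/-!
# The graded module of sections of twists, through standard opens
-/

set_option autoImplicit false
set_option linter.unusedSectionVars false
set_option backward.isDefEq.respectTransparency.types false
set_option maxHeartbeats 400000

universe u

open AlgebraicGeometry CategoryTheory TopologicalSpace Opposite
open Groth.Agent.Coherent Groth.Agent.PicLib

namespace Groth.Agent.GStarLib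

variable {A σ : Type u} [CommRing A] [SetLike σ A] [AddSubgroupClass σ A] {𝒜 : ℕ → σ} [GradedRing 𝒜]

section hom

variable {f : A} (hf : f ∈ 𝒜 1)

/-- `a ↦ ∑ (a_n / f^n) T^n`. -/
noncomputable def eHom : A →+* Polynomial Γ(Proj 𝒜, Proj.basicOpen 𝒜 f) :=
  (DirectSum.toSemiring (fun n : ℕ =>
      (Polynomial.monomial n).toAddMonoidHom.comp (AddMonoidHom.mk' (fun a : 𝒜 n => fr hf a) (fr_add hf)))
    (by
      show Polynomial.monomial 0 (fr hf (⟨1, SetLike.GradedOne.one_mem⟩ : 𝒜 0)) = 1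
      rw [fr_one]
      exact Polynomial.monomial_zero_one)
    (fun {i j} a b => by
      show Polynomial.monomial (i + j) (fr hf (⟨a.1 * b.1, SetLike.mul_mem_graded a.2 b.2⟩ : 𝒜 (i + j))) =
        Polynomial.monomial i (fr hf a) * Polynomial.monomial j (fr hf b)
      rw [Polynomial.monomial_mul_monomial, fr_mul])).comp (DirectSum.decomposeRingEquiv 𝒜).toRingHom

theorem eHom_of_mem {i : ℕ} (a : 𝒜 i) : eHom hf a.1 = Polynomial.monomial i (fr hf a) := by
  rw [eHom, RingHom.comp_apply]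
  have : (DirectSum.decomposeRingEquiv 𝒜).toRingHom a.1 = DirectSum.of (fun n => 𝒜 n) i a :=
    DirectSum.decompose_coe 𝒜 a
  rw [this, DirectSum.toSemiring_of]
  rfl

end hom

variable (F : (Proj 𝒜).Modules) {s : Set A} (hs1 : ∀ g : s, g.1 ∈ 𝒜 1)

/-- Sequences of sections over one standard open. -/
def PM (_hs1 : ∀ g : s, g.1 ∈ 𝒜 1) (g : s) : Type u :=
  PolynomialModule Γ(Proj 𝒜, Proj.basicOpen 𝒜 g.1) Γ(F, Proj.basicOpen 𝒜 g.1)

noncomputable instance (g : s) : AddCommGroup (PM F hs1 g) :=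
  inferInstanceAs (AddCommGroup (PolynomialModule Γ(Proj 𝒜, Proj.basicOpen 𝒜 g.1) Γ(F, Proj.basicOpen 𝒜 g.1)))

noncomputable instance (g : s) :
    Module (Polynomial Γ(Proj 𝒜, Proj.basicOpen 𝒜 g.1)) (PM F hs1 g) :=
  inferInstanceAs (Module (Polynomial Γ(Proj 𝒜, Proj.basicOpen 𝒜 g.1))
    (PolynomialModule Γ(Proj 𝒜, Proj.basicOpen 𝒜 g.1) Γ(F, Proj.basicOpen 𝒜 g.1)))

noncomputable instance (g : s) : Module A (PM F hs1 g) := Module.compHom _ (eHom (hs1 g))

variable {F hs1}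

/-- The `n`-th term. -/
noncomputable def cf (n : ℕ) {g : s} : PM F hs1 g →+ Γ(F, Proj.basicOpen 𝒜 g.1) where
  toFun p := (show PolynomialModule Γ(Proj 𝒜, Proj.basicOpen 𝒜 g.1) Γ(F, Proj.basicOpen 𝒜 g.1) from p).coeff n
  map_zero' := rfl
  map_add' _ _ := rfl

theorem pm_ext {g : s} {p q : PM F hs1 g} (h : ∀ n, cf n p = cf n q) : p = q :=
  PolynomialModule.coeff_injective (Finsupp.ext h)

/-- A sequence with one term. -/
noncomputable def sgl (n : ℕ) {g : s} (w : Γ(F, Proj.basicOpen 𝒜 g.1)) : PM F hs1 g :=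
  PolynomialModule.single Γ(Proj 𝒜, Proj.basicOpen 𝒜 g.1) n w

theorem cf_sgl (n k : ℕ) {g : s} (w : Γ(F, Proj.basicOpen 𝒜 g.1)) :
    cf k (sgl (F := F) (hs1 := hs1) n w) = if n = k then w else 0 := by
  classical
  exact Finsupp.single_apply

theorem cf_smul {g : s} {i : ℕ} (a : 𝒜 i) (p : PM F hs1 g) (n : ℕ) :
    cf n (a.1 • p) = if i ≤ n then fr (hs1 g) a • cf (n - i) p else 0 := by
  show (eHom (hs1 g) a.1 • (show PolynomialModule Γ(Proj 𝒜, Proj.basicOpen 𝒜 g.1) Γ(F, Proj.basicOpen 𝒜 g.1)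
    from p)).coeff n = _
  rw [eHom_of_mem, PolynomialModule.monomial_smul_apply]
  rfl

/-- Compatible families in degree `n`. -/
def Compat (F : (Proj 𝒜).Modules) (hs1 : ∀ g : s, g.1 ∈ 𝒜 1) (n : ℕ)
    (m : ∀ g : s, Γ(F, Proj.basicOpen 𝒜 g.1)) : Prop :=
  ∀ (g h : s) (W : (Proj 𝒜).Opens) (hg : W ≤ Proj.basicOpen 𝒜 g.1) (hh : W ≤ Proj.basicOpen 𝒜 h.1),
    res hg (fr (hs1 g) (⟨h.1, hs1 h⟩ : 𝒜 1)) ^ n • resM F hh (m h) = resM F hg (m g)

theorem compat_zero (n : ℕ) : Compat F hs1 n (fun _ => 0) := fun g h W hg hh => by simp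

theorem compat_add {n : ℕ} {m m' : ∀ g : s, Γ(F, Proj.basicOpen 𝒜 g.1)} (hm : Compat F hs1 n m)
    (hm' : Compat F hs1 n m') : Compat F hs1 n (fun g => m g + m' g) := fun g h W hg hh => by
  rw [map_add, map_add, smul_add, hm g h W hg hh, hm' g h W hg hh]

theorem compat_smul {n i : ℕ} {m : ∀ g : s, Γ(F, Proj.basicOpen 𝒜 g.1)} (hm : Compat F hs1 n m) (a : 𝒜 i) :
    Compat F hs1 (i + n) (fun g => fr (hs1 g) a • m g) := fun g h W hg hh => by
  rw [resM_smul, resM_smul, ← hm g h W hg hh]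
  show res hg _ ^ (i + n) • res hh (fr (hs1 h) a) • resM F hh (m h) =
    res hg (fr (hs1 g) a) • res hg _ ^ n • resM F hh (m h)
  rw [← res_fr_change (hs1 g) (hs1 h) hg hh a, ← mul_smul, ← mul_smul, pow_add]
  congr 1
  ring

variable (F hs1)

/-- The graded module `Γ_*(F)`. -/
noncomputable def gammaStar : Submodule A (∀ g : s, PM F hs1 g) where
  carrier := {p | ∀ n, Compat F hs1 n (fun g => cf n (p g))}
  zero_mem' n := by simpa using compat_zero (F := F) (hs1 := hs1) n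
  add_mem' {p q} hp hq n := by simpa using compat_add (hp n) (hq n)
  smul_mem' c p hp := by
    classical
    intro n
    rw [← DirectSum.sum_support_decompose 𝒜 c, Finset.sum_smul]
    induction (DirectSum.decompose 𝒜 c).support using Finset.induction_on with
    | empty => simpa using compat_zero (F := F) (hs1 := hs1) n
    | insert i S hi ih =>
      rw [Finset.sum_insert hi]
      have h1 : Compat F hs1 n (fun g => cf n (((DirectSum.decompose 𝒜 c i : A) • p) g)) := by
        simp only [Pi.smul_apply, cf_smul]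
        by_cases h : i ≤ n
        · simp only [h, if_true]
          have := compat_smul (hp (n - i)) (DirectSum.decompose 𝒜 c i)
          rwa [Nat.add_sub_cancel' h] at this
        · simp only [h, if_false]
          exact compat_zero n
      simpa using compat_add h1 ih

/-- The degree `n` part. -/
noncomputable def grade (n : ℕ) : AddSubgroup (gammaStar F hs1) where
  carrier := {p | ∀ (g : s) (k : ℕ), k ≠ n → cf k (p.1 g) = 0}
  zero_mem' g k _ := map_zero _
  add_mem' {p q} hp hq g k hk := by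
    show cf k (p.1 g + q.1 g) = 0
    rw [map_add, hp g k hk, hq g k hk, add_zero]
  neg_mem' {p} hp g k hk := by
    show cf k (-(p.1 g)) = 0
    rw [map_neg, hp g k hk, neg_zero]

instance : SetLike.GradedSMul 𝒜 (grade F hs1) where
  smul_mem {i j a p} ha hp g k hk := by
    show cf k (a • p.1 g) = 0
    rw [cf_smul (⟨a, ha⟩ : 𝒜 i)]
    split_ifs with h
    · rw [hp g (k - i) (by change k ≠ i + j at hk; omega), smul_zero]
    · rfl

variable {F hs1}

theorem cf_eq_of_mem {n : ℕ} {p : gammaStar F hs1} (hp : p ∈ grade F hs1 n) (g : s) (k : ℕ) :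
    cf k (p.1 g) = if n = k then cf n (p.1 g) else 0 := by
  split_ifs with h
  · rw [h]
  · exact hp g k (Ne.symm h)

/-- The `n`-th homogeneous component. -/
noncomputable def comp (n : ℕ) : gammaStar F hs1 →+ grade F hs1 n where
  toFun p := ⟨⟨fun g => sgl n (cf n (p.1 g)), fun k => by
    simp only [cf_sgl]
    by_cases h : n = k
    · subst h; simpa using p.2 n
    · simpa [h] using compat_zero (F := F) (hs1 := hs1) k⟩, fun g k hk => (cf_sgl n k _).trans (if_neg (Ne.symm hk))⟩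
  map_zero' := Subtype.ext (Subtype.ext (funext fun g => pm_ext fun k => by
    simp [cf_sgl]))
  map_add' p q := Subtype.ext (Subtype.ext (funext fun g => pm_ext fun k => by
    by_cases h : n = k <;> simp [cf_sgl, h]))

theorem comp_of_mem {n : ℕ} {p : gammaStar F hs1} (hp : p ∈ grade F hs1 n) : (comp n p : gammaStar F hs1) = p :=
  Subtype.ext (funext fun g => pm_ext fun k => (cf_sgl n k _).trans (cf_eq_of_mem hp g k).symm)

theorem comp_of_mem_ne {n j : ℕ} {p : gammaStar F hs1} (hp : p ∈ grade F hs1 n) (h : n ≠ j) : comp j p = 0 :=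
  Subtype.ext (Subtype.ext (funext fun g => pm_ext fun k => (cf_sgl j k _).trans (by
    show _ = cf k (0 : PM F hs1 g)
    rw [map_zero]
    split_ifs with hjk
    · rw [hp g j h.symm]
    · rfl)))

theorem exists_sum_comp [Finite s] (p : gammaStar F hs1) :
    ∃ S : Finset ℕ, (∀ n ∉ S, comp n p = 0) ∧ ∑ n ∈ S, (comp n p : gammaStar F hs1) = p := by
  classical
  cases nonempty_fintype s
  let S : Finset ℕ := Finset.univ.biUnion fun g : s =>
    (show PolynomialModule Γ(Proj 𝒜, Proj.basicOpen 𝒜 g.1) Γ(F, Proj.basicOpen 𝒜 g.1) from p.1 g).coeff.support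
  have hS : ∀ n ∉ S, ∀ g : s, cf n (p.1 g) = 0 := fun n hn g => by
    simp only [S, Finset.mem_biUnion, Finset.mem_univ, true_and, not_exists] at hn
    exact Finsupp.notMem_support_iff.1 (hn g)
  refine ⟨S, fun n hn => Subtype.ext (Subtype.ext (funext fun g => pm_ext fun k => ?_)),
    Subtype.ext (funext fun g => pm_ext fun k => ?_)⟩
  · show cf k (sgl (F := F) (hs1 := hs1) n (cf n (p.1 g))) = cf k (0 : PM F hs1 g)
    rw [hS n hn g, cf_sgl, map_zero, ite_self]
  · rw [Submodule.coe_sum, Finset.sum_apply, map_sum]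
    show ∑ n ∈ S, cf k (sgl (F := F) (hs1 := hs1) n (cf n (p.1 g))) = cf k (p.1 g)
    simp only [cf_sgl]
    rw [Finset.sum_ite_eq']
    split_ifs with h
    · rfl
    · exact (hS k h g).symm

/-- A gradation given by projections. -/
noncomputable def decompositionOfComp {M τ : Type u} [AddCommGroup M] [SetLike τ M] [AddSubgroupClass τ M]
    (ℳ : ℕ → τ) (c : ∀ n, M →+ ℳ n) (h1 : ∀ n (p : ℳ n), c n p.1 = p) (h2 : ∀ n j (p : ℳ n), n ≠ j → c j p.1 = 0)
    (h3 : ∀ p, ∃ S : Finset ℕ, (∀ n ∉ S, c n p = 0) ∧ ∑ n ∈ S, (c n p : M) = p) :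
    DirectSum.Decomposition ℳ where
  decompose' p := DFinsupp.mk (h3 p).choose fun n => c n.1 p
  left_inv p := by
    classical
    obtain ⟨hz, hsum⟩ := (h3 p).choose_spec
    refine Eq.trans ?_ hsum
    rw [DirectSum.coeAddMonoidHom, DirectSum.toAddMonoid]
    refine (DFinsupp.sumAddHom_apply _ _).trans ?_
    rw [DFinsupp.sum]
    refine Finset.sum_subset_zero_on_sdiff ?_ ?_ fun n hn => ?_
    · exact DFinsupp.support_mk_subset
    · intro n hn
      obtain ⟨hn1, hn2⟩ := Finset.mem_sdiff.1 hn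
      rw [DFinsupp.mem_support_toFun, not_not, DFinsupp.mk_apply, dif_pos hn1] at hn2
      rw [hn2, ZeroMemClass.coe_zero]
    · rw [DFinsupp.mk_apply, dif_pos (DFinsupp.support_mk_subset hn)]
      rfl
  right_inv x := by
    classical
    refine DFinsupp.ext fun j => ?_
    have hcj : c j (DirectSum.coeAddMonoidHom ℳ x) = x j := by
      induction x using DirectSum.induction_on with
      | zero => simp
      | of n p =>
        rw [DirectSum.coeAddMonoidHom_of]
        by_cases h : n = j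
        · subst h; rw [h1, DirectSum.of_eq_same]
        · rw [h2 n j p h, DirectSum.of_eq_of_ne _ _ _ (Ne.symm h)]
      | add x y hx hy => rw [map_add, map_add, DirectSum.add_apply, hx, hy]
    obtain ⟨hz, -⟩ := (h3 (DirectSum.coeAddMonoidHom ℳ x)).choose_spec
    rw [DFinsupp.mk_apply]
    split_ifs with h
    · exact hcj
    · rw [← hcj, hz j h]

noncomputable instance [Finite s] : DirectSum.Decomposition (grade F hs1) :=
  decompositionOfComp (grade F hs1) comp (fun _ p => Subtype.ext (comp_of_mem p.2))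
    (fun _ _ p h => comp_of_mem_ne p.2 h) exists_sum_comp

variable (F hs1)

/-- Evaluation of a homogeneous element on a standard open. -/
noncomputable def ev (g : s) (n : ℕ) : grade F hs1 n →+ Γ(F, Proj.basicOpen 𝒜 g.1) :=
  AddMonoidHom.mk' (fun p => cf n (p.1.1 g)) fun p q => map_add (cf n) (p.1.1 g) (q.1.1 g)

variable {F hs1}

theorem exists_grade {n : ℕ} (m : ∀ g : s, Γ(F, Proj.basicOpen 𝒜 g.1)) (hm : Compat F hs1 n m) :
    ∃ p : grade F hs1 n, ∀ g, ev F hs1 g n p = m g := by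
  refine ⟨⟨⟨fun g => sgl n (m g), fun k => ?_⟩, fun g k hk => (cf_sgl n k _).trans (if_neg (Ne.symm hk))⟩,
    fun g => (cf_sgl (F := F) (hs1 := hs1) n n (m g)).trans (if_pos rfl)⟩
  simp only [cf_sgl]
  by_cases h : n = k
  · subst h; simpa using hm
  · simpa [h] using compat_zero (F := F) (hs1 := hs1) k

theorem isGammaDatum [Coh.IsQCoh F] [Finite s] (hcov : ∀ x : Proj 𝒜, ∃ g : s, x ∈ Proj.basicOpen 𝒜 g.1) :
    IsGammaDatum F s hs1 (ev F hs1) := by
  classical
  cases nonempty_fintype s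
  have haff : ∀ g : s, IsAffineOpen (Proj.basicOpen 𝒜 g.1) := fun g =>
    Proj.isAffineOpen_basicOpen 𝒜 g.1 (hs1 g) one_pos
  refine ⟨hcov, fun g i n a p => ?_, fun g h W hg hh n p => p.1.2 n g h W hg hh, fun f₀ w => ?_, fun g n p hp => ?_⟩
  · show cf (i + n) (a.1 • p.1.1 g) = fr (hs1 g) a • cf n (p.1.1 g)
    rw [cf_smul, if_pos (Nat.le_add_right i n), Nat.add_sub_cancel_left]
  · -- extending a section
    let φ : ∀ g : s, Γ(Proj 𝒜, Proj.basicOpen 𝒜 g.1) := fun g => fr (hs1 g) (⟨f₀.1, hs1 f₀⟩ : 𝒜 1)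
    have hφ : ∀ g : s, (Proj 𝒜).basicOpen (φ g) ≤ Proj.basicOpen 𝒜 f₀.1 := fun g =>
      (basicOpen_fr (hs1 g) _).le.trans inf_le_right
    choose N t ht using fun g : s => qcoh_exists_pow_smul (haff g) F (φ g) (resM F (hφ g) w)
    let N₀ := Finset.univ.sup N
    let t₀ : ∀ g : s, Γ(F, Proj.basicOpen 𝒜 g.1) := fun g => φ g ^ (N₀ - N g) • t g
    have ht₀ : ∀ (g : s) (W : (Proj 𝒜).Opens) (hg : W ≤ Proj.basicOpen 𝒜 g.1) (hf : W ≤ Proj.basicOpen 𝒜 f₀.1),
        resM F hg (t₀ g) = res hg (φ g) ^ N₀ • resM F hf w := by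
      intro g W hg hf
      have hW : W ≤ (Proj 𝒜).basicOpen (φ g) := (le_inf hg hf).trans (basicOpen_fr (hs1 g) (⟨f₀.1, hs1 f₀⟩ : 𝒜 1)).ge
      have h1 := congrArg (resM F hW) (ht g)
      rw [resM_smul, resM_resM, resM_resM] at h1
      have h2 : resM F hg (t g) = res hg (φ g) ^ N g • resM F hf w := h1.trans (congrArg (· • _) (by
        show res hW (res ((Proj 𝒜).basicOpen_le (φ g)) (φ g ^ N g)) = _
        rw [res_res, map_pow]))
      show resM F hg (φ g ^ (N₀ - N g) • t g) = _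
      rw [resM_smul, h2, ← mul_smul]
      show (res hg (φ g ^ (N₀ - N g)) * _) • _ = _
      rw [map_pow, ← pow_add, Nat.sub_add_cancel (Finset.le_sup (Finset.mem_univ g))]
    have hK : ∀ g h : s, ∃ K : ℕ, res (inf_le_left : Proj.basicOpen 𝒜 g.1 ⊓ Proj.basicOpen 𝒜 h.1 ≤ _) (φ g) ^ K •
        (res (inf_le_left : Proj.basicOpen 𝒜 g.1 ⊓ Proj.basicOpen 𝒜 h.1 ≤ _)
            (fr (hs1 g) (⟨h.1, hs1 h⟩ : 𝒜 1)) ^ N₀ • resM F inf_le_right (t₀ h) - resM F inf_le_left (t₀ g)) = 0 := by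
      intro g h
      have haff' : IsAffineOpen (Proj.basicOpen 𝒜 g.1 ⊓ Proj.basicOpen 𝒜 h.1) := by
        rw [← basicOpen_fr (hs1 g) (⟨h.1, hs1 h⟩ : 𝒜 1)]
        exact (haff g).basicOpen _
      refine qcoh_exists_pow_smul_eq_zero haff' F _ _ ?_
      set W := (Proj 𝒜).basicOpen (res (inf_le_left : Proj.basicOpen 𝒜 g.1 ⊓ Proj.basicOpen 𝒜 h.1 ≤ _) (φ g))
      have hW0 : W ≤ Proj.basicOpen 𝒜 g.1 ⊓ Proj.basicOpen 𝒜 h.1 := (Proj 𝒜).basicOpen_le _
      have hWf : W ≤ Proj.basicOpen 𝒜 f₀.1 := (Scheme.basicOpen_res (Proj 𝒜) (φ g) _).le.trans (inf_le_right.trans (hφ g))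
      rw [map_sub, resM_smul, resM_resM, resM_resM, ht₀ h W (hW0.trans inf_le_right) hWf,
        ht₀ g W (hW0.trans inf_le_left) hWf, sub_eq_zero, ← mul_smul]
      congr 1
      show res hW0 (res inf_le_left _ ^ N₀) * _ = _
      rw [map_pow, res_res, ← mul_pow]
      congr 1
      have := res_fr_change (hs1 g) (hs1 h) (hW0.trans inf_le_left) (hW0.trans inf_le_right) (⟨f₀.1, hs1 f₀⟩ : 𝒜 1)
      rw [pow_one] at this
      rw [← this, mul_comm]
    choose K hK using hK
    let K₀ := Finset.univ.sup fun g => Finset.univ.sup (K g)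
    obtain ⟨p, hp⟩ := exists_grade (hs1 := hs1) (n := N₀ + K₀) (fun g => φ g ^ K₀ • t₀ g) fun g h W hg hh => by
      have h0 := congrArg (resM F (le_inf hg hh)) (hK g h)
      rw [resM_smul, map_sub, resM_smul, resM_resM, resM_resM, map_zero] at h0
      have hle : K g h ≤ K₀ := (Finset.le_sup (f := K g) (Finset.mem_univ h)).trans
        (Finset.le_sup (f := fun g => Finset.univ.sup (K g)) (Finset.mem_univ g))
      have h1 : res hg (φ g) ^ K g h • (res hg (fr (hs1 g) (⟨h.1, hs1 h⟩ : 𝒜 1)) ^ N₀ • resM F hh (t₀ h) -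
          resM F hg (t₀ g)) = 0 := by
        refine Eq.trans ?_ h0
        show _ = res (le_inf hg hh) (res inf_le_left (φ g) ^ K g h) • (res (le_inf hg hh) (res inf_le_left _ ^ N₀) • _ - _)
        rw [map_pow, map_pow, res_res, res_res]
      have h2 : res hg (φ g) ^ K₀ • (res hg (fr (hs1 g) (⟨h.1, hs1 h⟩ : 𝒜 1)) ^ N₀ • resM F hh (t₀ h) -
          resM F hg (t₀ g)) = 0 := by
        rw [← Nat.sub_add_cancel hle, pow_add, mul_smul, h1, smul_zero]
      rw [smul_sub, sub_eq_zero] at h2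
      have hc := res_fr_change (hs1 g) (hs1 h) hg hh (⟨f₀.1, hs1 f₀⟩ : 𝒜 1)
      rw [pow_one] at hc
      show res hg _ ^ (N₀ + K₀) • resM F hh (φ h ^ K₀ • t₀ h) = resM F hg (φ g ^ K₀ • t₀ g)
      rw [resM_smul F hh (φ h ^ K₀) (t₀ h), resM_smul F hg (φ g ^ K₀) (t₀ g)]
      show res hg _ ^ (N₀ + K₀) • res hh (φ h ^ K₀) • resM F hh (t₀ h) = res hg (φ g ^ K₀) • resM F hg (t₀ g)
      rw [map_pow, map_pow, ← h2, ← mul_smul, ← mul_smul, ← hc]
      congr 1
      rw [pow_add, mul_pow]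
      ring
    refine ⟨N₀ + K₀, p, (hp f₀).trans ?_⟩
    have h1 : φ f₀ = 1 := fr_self (hs1 f₀)
    have h2 := ht₀ f₀ _ le_rfl le_rfl
    rw [resM_self, resM_self, h1, map_one, one_pow, one_smul] at h2
    show φ f₀ ^ K₀ • t₀ f₀ = w
    rw [h1, one_pow, one_smul, h2]
  · -- killing
    have hz : ∀ h : s, ∃ N : ℕ, fr (hs1 h) (⟨g.1, hs1 g⟩ : 𝒜 1) ^ N • ev F hs1 h n p = 0 := fun h => by
      refine qcoh_exists_pow_smul_eq_zero (haff h) F _ _ ?_
      have hW := (basicOpen_fr (hs1 h) (⟨g.1, hs1 g⟩ : 𝒜 1)).le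
      refine (p.1.2 n h g _ ((Proj 𝒜).basicOpen_le _) (hW.trans inf_le_right)).symm.trans ?_
      show _ • resM F _ (ev F hs1 g n p) = 0
      rw [hp, map_zero, smul_zero]
    choose N hN using hz
    refine ⟨Finset.univ.sup N, Subtype.ext (funext fun h => pm_ext fun k => ?_)⟩
    show cf k ((⟨g.1 ^ Finset.univ.sup N, by simpa using TwistLib.G.pow_mem_deg (hs1 g) _⟩ :
      𝒜 (Finset.univ.sup N)).1 • p.1.1 h) = cf k (0 : PM F hs1 h)
    rw [cf_smul, map_zero]
    split_ifs with hk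
    · by_cases hkn : k - Finset.univ.sup N = n
      · have hpow : fr (hs1 h) (⟨g.1 ^ Finset.univ.sup N, by simpa using TwistLib.G.pow_mem_deg (hs1 g) _⟩ :
            𝒜 (Finset.univ.sup N)) = fr (hs1 h) (⟨g.1, hs1 g⟩ : 𝒜 1) ^ Finset.univ.sup N := by
          rw [fr_pow]
          exact fr_congr _ _ _ (mul_one _).symm rfl
        rw [hkn, hpow, ← Nat.sub_add_cancel (Finset.le_sup (f := N) (Finset.mem_univ h)), pow_add, mul_smul]
        exact (congrArg _ (hN h)).trans (smul_zero _)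
      · rw [p.2 h _ hkn, smul_zero]
    · rfl

end Groth.Agent.GStarLib
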