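import Groth.Agent.GStarLib.Frac
import Groth.Agent.TwistLib.G.Sections

/-!
# Recognising a quasi-coherent module as `M~` from its sections over standard opens
-/

set_option autoImplicit false
set_option linter.unusedSectionVars false
set_option backward.isDefEq.respectTransparency.types false
set_option maxHeartbeats 400000

universe u

open AlgebraicGeometry CategoryTheory TopologicalSpace Opposite
open Groth.Agent.Coherent Groth.Agent.PicLib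

namespace Groth.Agent.GStarLib

variable {A σ : Type u} [CommRing A] [SetLike σ A] [AddSubgroupClass σ A] {𝒜 : ℕ → σ} [GradedRing 𝒜]
  {M τ : Type u} [AddCommGroup M] [Module A M] [SetLike τ M] [AddSubgroupClass τ M] {ℳ : ℕ → τ}
  [SetLike.GradedSMul 𝒜 ℳ]

/-- `M` maps to sections of `F` over standard opens like `Γ_*(F)` does. -/
structure IsGammaDatum (F : (Proj 𝒜).Modules) (s : Set A) (hs1 : ∀ g : s, g.1 ∈ 𝒜 1)
    (ev : ∀ (g : s) (n : ℕ), ℳ n →+ Γ(F, Proj.basicOpen 𝒜 g.1)) : Prop where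
  cover : ∀ x : Proj 𝒜, ∃ g : s, x ∈ Proj.basicOpen 𝒜 g.1
  ev_smul : ∀ (g : s) (i n : ℕ) (a : 𝒜 i) (m : ℳ n),
    ev g (i + n) ⟨a.1 • m.1, SetLike.GradedSMul.smul_mem a.2 m.2⟩ = fr (hs1 g) a • ev g n m
  ev_change : ∀ (g h : s) (W : (Proj 𝒜).Opens) (hg : W ≤ Proj.basicOpen 𝒜 g.1) (hh : W ≤ Proj.basicOpen 𝒜 h.1)
    (n : ℕ) (m : ℳ n), res hg (fr (hs1 g) (⟨h.1, hs1 h⟩ : 𝒜 1)) ^ n • resM F hh (ev h n m) = resM F hg (ev g n m)
  surj : ∀ (g : s) (w : Γ(F, Proj.basicOpen 𝒜 g.1)), ∃ (n : ℕ) (m : ℳ n), ev g n m = w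
  kill : ∀ (g : s) (n : ℕ) (m : ℳ n), ev g n m = 0 → ∃ N : ℕ, g.1 ^ N • m.1 = 0

variable {F : (Proj 𝒜).Modules} {s : Set A} {hs1 : ∀ g : s, g.1 ∈ 𝒜 1}
  {ev : ∀ (g : s) (n : ℕ), ℳ n →+ Γ(F, Proj.basicOpen 𝒜 g.1)}

/-- Value and germ correspond. -/
def Rel (ev : ∀ (g : s) (n : ℕ), ℳ n →+ Γ(F, Proj.basicOpen 𝒜 g.1)) (hs1 : ∀ g : s, g.1 ∈ 𝒜 1)
    (y : ProjectiveSpectrum 𝒜) (v : GrMod.LocMod 𝒜 (M := M) y) (γ : F.presheaf.stalk (show Proj 𝒜 from y)) : Prop :=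
  ∃ (g : s) (hy : (show Proj 𝒜 from y) ∈ Proj.basicOpen 𝒜 g.1) (i : ℕ) (m : ℳ i) (t : 𝒜 i)
    (ht : t.1 ∉ y.asHomogeneousIdeal.toIdeal),
    v = LocalizedModule.mk m.1 ⟨t.1, ht⟩ ∧
      (Proj 𝒜).presheaf.germ _ _ hy (fr (hs1 g) t) • γ = F.presheaf.germ _ _ hy (ev g i m)

theorem isUnit_germ_fr {f : A} (hf : f ∈ 𝒜 1) {i : ℕ} (t : 𝒜 i) {y : Proj 𝒜} (hy : y ∈ Proj.basicOpen 𝒜 f)
    (ht : t.1 ∉ y.asHomogeneousIdeal.toIdeal) : IsUnit ((Proj 𝒜).presheaf.germ _ y hy (fr hf t)) := by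
  rw [← Scheme.mem_basicOpen, basicOpen_fr]
  exact ⟨hy, ht⟩

theorem ev_cast {g : s} {i j : ℕ} (m : ℳ i) (m' : ℳ j) (hij : i = j) (h : m.1 = m'.1) : ev g i m = ev g j m' := by
  subst hij
  rw [Subtype.ext h]

variable (H : IsGammaDatum F s hs1 ev)
include H

/-- The condition in `Rel` does not depend on the standard open. -/
theorem rel_change {y : Proj 𝒜} (g h : s) (hg : y ∈ Proj.basicOpen 𝒜 g.1) (hh : y ∈ Proj.basicOpen 𝒜 h.1)
    {i : ℕ} (m : ℳ i) (t : 𝒜 i) (γ : F.presheaf.stalk y)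
    (e : (Proj 𝒜).presheaf.germ _ y hg (fr (hs1 g) t) • γ = F.presheaf.germ _ y hg (ev g i m)) :
    (Proj 𝒜).presheaf.germ _ y hh (fr (hs1 h) t) • γ = F.presheaf.germ _ y hh (ev h i m) := by
  let W := Proj.basicOpen 𝒜 g.1 ⊓ Proj.basicOpen 𝒜 h.1
  have hy : y ∈ W := ⟨hg, hh⟩
  have hu : IsUnit ((Proj 𝒜).presheaf.germ _ y hg (fr (hs1 g) (⟨h.1, hs1 h⟩ : 𝒜 1)) ^ i) :=
    (isUnit_germ_fr (hs1 g) (⟨h.1, hs1 h⟩ : 𝒜 1) hg hh).pow i
  refine hu.smul_left_cancel.1 ?_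
  have h1 := congrArg ((Proj 𝒜).presheaf.germ W y hy)
    (res_fr_change (hs1 g) (hs1 h) (inf_le_left : W ≤ _) (inf_le_right : W ≤ _) t)
  rw [map_mul, map_pow, TopCat.Presheaf.germ_res_apply, TopCat.Presheaf.germ_res_apply,
    TopCat.Presheaf.germ_res_apply] at h1
  have h2 := congrArg (F.presheaf.germ W y hy) (H.ev_change g h W inf_le_left inf_le_right i m)
  rw [QCohLoc.germ_smul', map_pow, TopCat.Presheaf.germ_res_apply] at h2
  rw [← mul_smul, mul_comm, h1, e]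
  exact ((congrArg (_ • ·) (TopCat.Presheaf.germ_res_apply F.presheaf (homOfLE (inf_le_right : W ≤ _)) y hy _).symm).trans
    (h2.trans (TopCat.Presheaf.germ_res_apply F.presheaf (homOfLE (inf_le_left : W ≤ _)) y hy _))).symm

theorem kill_of_germ [Coh.IsQCoh F] {y : Proj 𝒜} (g : s) (hy : y ∈ Proj.basicOpen 𝒜 g.1) {n : ℕ} (d : ℳ n)
    (h : F.presheaf.germ _ y hy (ev g n d) = 0) :
    ∃ c : A, c ∉ y.asHomogeneousIdeal.toIdeal ∧ c • d.1 = 0 := by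
  obtain ⟨V, hyV, i, j, e⟩ := F.presheaf.germ_eq y hy hy (ev g n d) 0 (h.trans (map_zero _).symm)
  obtain ⟨k, a, hya, haV⟩ := exists_fr_basicOpen (hs1 g) hyV hy
  have h0 : resM F ((Proj 𝒜).basicOpen_le (fr (hs1 g) a)) (ev g n d) = 0 := by
    rw [← resM_resM F i.le haV]
    exact (congrArg (resM F haV) (e.trans (map_zero _))).trans (map_zero _)
  obtain ⟨N, hN⟩ := qcoh_exists_pow_smul_eq_zero (Proj.isAffineOpen_basicOpen 𝒜 g.1 (hs1 g) one_pos) F _ _ h0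
  rw [fr_pow, ← H.ev_smul] at hN
  obtain ⟨K, hK⟩ := H.kill g _ _ hN
  rw [basicOpen_fr] at hya
  refine ⟨g.1 ^ K * a.1 ^ N, fun hc => ?_, by rw [mul_smul]; exact hK⟩
  rcases y.isPrime.mem_or_mem hc with h' | h'
  · exact hya.1 (y.isPrime.mem_of_pow_mem K h')
  · exact hya.2 (y.isPrime.mem_of_pow_mem N h')

theorem germ_unique {y : Proj 𝒜} {v : GrMod.LocMod 𝒜 (M := M) y} {γ γ' : F.presheaf.stalk y}
    [DirectSum.Decomposition ℳ] (h : Rel ev hs1 y v γ) (h' : Rel ev hs1 y v γ') : γ = γ' := by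
  obtain ⟨g, hy, i, m, t, ht, rfl, e⟩ := h
  obtain ⟨g', hy', i', m', t', ht', hv, e'⟩ := h'
  replace e' := rel_change H g' g hy' hy m' t' γ' e'
  obtain ⟨⟨c, hc⟩, hc'⟩ := LocalizedModule.mk_eq.mp hv
  simp only [Submonoid.smul_def] at hc'
  have hmem : t'.1 • m.1 - t.1 • m'.1 ∈ ℳ (i' + i) :=
    sub_mem (SetLike.GradedSMul.smul_mem t'.2 m.2) ((add_comm i i') ▸ SetLike.GradedSMul.smul_mem t.2 m'.2)
  obtain ⟨k, hk⟩ := TwistLib.G.exists_homogeneous_component_notMem 𝒜 y hc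
  have h0 : (DirectSum.decompose 𝒜 c k : A) • (t'.1 • m.1 - t.1 • m'.1) = 0 :=
    TwistLib.G.decompose_smul_eq_zero hmem (by rw [smul_sub, hc', sub_self]) k
  rw [smul_sub, sub_eq_zero] at h0
  let c' : 𝒜 k := DirectSum.decompose 𝒜 c k
  have h1 := congrArg (F.presheaf.germ _ y hy)
    (ev_cast (ev := ev) (g := g) (⟨c'.1 • t'.1 • m.1, SetLike.GradedSMul.smul_mem c'.2
      (SetLike.GradedSMul.smul_mem t'.2 m.2)⟩ : ℳ (k + (i' + i)))
      (⟨c'.1 • t.1 • m'.1, SetLike.GradedSMul.smul_mem c'.2 (SetLike.GradedSMul.smul_mem t.2 m'.2)⟩ : ℳ (k + (i + i')))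
      (by omega) h0)
  have l1 := H.ev_smul g k (i' + i) c' ⟨t'.1 • m.1, SetLike.GradedSMul.smul_mem t'.2 m.2⟩
  have l2 := H.ev_smul g k (i + i') c' ⟨t.1 • m'.1, SetLike.GradedSMul.smul_mem t.2 m'.2⟩
  rw [H.ev_smul g i' i t' m] at l1
  rw [H.ev_smul g i i' t m'] at l2
  rw [l1, l2, QCohLoc.germ_smul', QCohLoc.germ_smul', QCohLoc.germ_smul', QCohLoc.germ_smul', ← e, ← e'] at h1
  replace h1 := (isUnit_germ_fr (hs1 g) c' hy hk).smul_left_cancel.1 h1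
  rw [← mul_smul, ← mul_smul, mul_comm] at h1
  exact ((isUnit_germ_fr (hs1 g) t hy ht).mul (isUnit_germ_fr (hs1 g) t' hy ht')).smul_left_cancel.1 h1

theorem val_unique [Coh.IsQCoh F] {y : Proj 𝒜} {v v' : GrMod.LocMod 𝒜 (M := M) y} {γ : F.presheaf.stalk y}
    (h : Rel ev hs1 y v γ) (h' : Rel ev hs1 y v' γ) : v = v' := by
  obtain ⟨g, hy, i, m, t, ht, rfl, e⟩ := h
  obtain ⟨g', hy', i', m', t', ht', rfl, e'⟩ := h'
  replace e' := rel_change H g' g hy' hy m' t' γ e'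
  have hm2 : t.1 • m'.1 ∈ ℳ (i' + i) := (add_comm i i') ▸ SetLike.GradedSMul.smul_mem t.2 m'.2
  have hmem : t'.1 • m.1 - t.1 • m'.1 ∈ ℳ (i' + i) := sub_mem (SetLike.GradedSMul.smul_mem t'.2 m.2) hm2
  obtain ⟨c, hc, hc'⟩ := kill_of_germ H g hy (⟨_, hmem⟩ : ℳ (i' + i)) (by
    rw [show (⟨_, hmem⟩ : ℳ (i' + i)) = ⟨t'.1 • m.1, SetLike.GradedSMul.smul_mem t'.2 m.2⟩ - ⟨t.1 • m'.1, hm2⟩
      from rfl, map_sub, map_sub, H.ev_smul,
      ev_cast (ev := ev) (g := g) (⟨t.1 • m'.1, hm2⟩ : ℳ (i' + i))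
        (⟨t.1 • m'.1, SetLike.GradedSMul.smul_mem t.2 m'.2⟩ : ℳ (i + i')) (by omega) rfl,
      H.ev_smul, QCohLoc.germ_smul', QCohLoc.germ_smul', ← e, ← e', ← mul_smul, ← mul_smul, mul_comm, sub_self])
  refine LocalizedModule.mk_eq.mpr ⟨⟨c, hc⟩, ?_⟩
  simp only [Submonoid.smul_def]
  rwa [smul_sub, sub_eq_zero] at hc'

theorem exists_rep [Coh.IsQCoh F] {V : (Proj 𝒜).Opens} (z : Γ(F, V)) {y : Proj 𝒜} (hyV : y ∈ V) :
    ∃ (W : (Proj 𝒜).Opens) (hWV : W ≤ V) (g : s) (hWg : W ≤ Proj.basicOpen 𝒜 g.1) (i : ℕ) (m : ℳ i) (t : 𝒜 i),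
      y ∈ W ∧ (∀ w ∈ W, t.1 ∉ w.asHomogeneousIdeal.toIdeal) ∧
      res hWg (fr (hs1 g) t) • resM F hWV z = resM F hWg (ev g i m) := by
  obtain ⟨g, hy⟩ := H.cover y
  obtain ⟨j, a, hya, haV⟩ := exists_fr_basicOpen (hs1 g) hyV hy
  obtain ⟨N, w, hw⟩ := qcoh_exists_pow_smul (Proj.isAffineOpen_basicOpen 𝒜 g.1 (hs1 g) one_pos) F
    (fr (hs1 g) a) (resM F haV z)
  obtain ⟨n, m, rfl⟩ := H.surj g w
  refine ⟨(Proj 𝒜).basicOpen (fr (hs1 g) a), haV, g, (Proj 𝒜).basicOpen_le _, N * j + n,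
    ⟨g.1 ^ (N * j) • m.1, SetLike.GradedSMul.smul_mem (by simpa using TwistLib.G.pow_mem_deg (hs1 g) (N * j)) m.2⟩,
    ⟨a.1 ^ N * g.1 ^ n, SetLike.mul_mem_graded (TwistLib.G.pow_mem_deg a.2 N)
      (by simpa using TwistLib.G.pow_mem_deg (hs1 g) n)⟩, hya, fun x hx => ?_, ?_⟩
  · rw [basicOpen_fr] at hx
    intro hc
    rcases x.isPrime.mem_or_mem hc with h' | h'
    · exact hx.2 (x.isPrime.mem_of_pow_mem N h')
    · exact hx.1 (x.isPrime.mem_of_pow_mem n h')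
  · rw [← fr_mul (hs1 g) (⟨a.1 ^ N, TwistLib.G.pow_mem_deg a.2 N⟩ : 𝒜 (N * j))
      (⟨g.1 ^ n, by simpa using TwistLib.G.pow_mem_deg (hs1 g) n⟩ : 𝒜 n), fr_self_pow, mul_one, ← fr_pow]
    refine Eq.trans ?_ (congrArg _ ((H.ev_smul g (N * j) n
      (⟨g.1 ^ (N * j), by simpa using TwistLib.G.pow_mem_deg (hs1 g) (N * j)⟩ : 𝒜 (N * j)) m).trans
        (by rw [fr_self_pow, one_smul]))).symm
    exact hw.symm

theorem rel_of_rep {V W : (Proj 𝒜).Opens} (z : Γ(F, V)) (hWV : W ≤ V) (g : s) (hWg : W ≤ Proj.basicOpen 𝒜 g.1)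
    {i : ℕ} (m : ℳ i) (t : 𝒜 i) (e : res hWg (fr (hs1 g) t) • resM F hWV z = resM F hWg (ev g i m))
    {w : Proj 𝒜} (hw : w ∈ W) (ht : t.1 ∉ w.asHomogeneousIdeal.toIdeal) :
    Rel ev hs1 w (LocalizedModule.mk m.1 ⟨t.1, ht⟩) (F.presheaf.germ V w (hWV hw) z) := by
  refine ⟨g, hWg hw, i, m, t, ht, rfl, ?_⟩
  have h := congrArg (F.presheaf.germ W w hw) e
  rw [QCohLoc.germ_smul', TopCat.Presheaf.germ_res_apply] at h
  exact ((congrArg (_ • ·) (TopCat.Presheaf.germ_res_apply F.presheaf (homOfLE hWV) w hw z).symm).trans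
    (h.trans (TopCat.Presheaf.germ_res_apply F.presheaf (homOfLE hWg) w hw _)))

theorem rel_add {y : Proj 𝒜} {v v' : GrMod.LocMod 𝒜 (M := M) y} {γ γ' : F.presheaf.stalk y}
    (h : Rel ev hs1 y v γ) (h' : Rel ev hs1 y v' γ') : Rel ev hs1 y (v + v') (γ + γ') := by
  obtain ⟨g, hy, i, m, t, ht, rfl, e⟩ := h
  obtain ⟨g', hy', i', m', t', ht', rfl, e'⟩ := h'
  replace e' := rel_change H g' g hy' hy m' t' γ' e'
  have h1 : t'.1 • m.1 ∈ ℳ (i + i') := (add_comm i' i) ▸ SetLike.GradedSMul.smul_mem t'.2 m.2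
  refine ⟨g, hy, i + i', ⟨t'.1 • m.1, h1⟩ + ⟨t.1 • m'.1, SetLike.GradedSMul.smul_mem t.2 m'.2⟩,
    ⟨t.1 * t'.1, SetLike.mul_mem_graded t.2 t'.2⟩, fun hc => (y.isPrime.mem_or_mem hc).elim ht ht', ?_, ?_⟩
  · rw [LocalizedModule.mk_add_mk]
    rfl
  · rw [map_add, map_add, ev_cast (ev := ev) (g := g) (⟨t'.1 • m.1, h1⟩ : ℳ (i + i'))
        (⟨t'.1 • m.1, SetLike.GradedSMul.smul_mem t'.2 m.2⟩ : ℳ (i' + i)) (by omega) rfl,
      H.ev_smul, H.ev_smul, QCohLoc.germ_smul', QCohLoc.germ_smul', ← fr_mul, map_mul, ← e, ← e', ← mul_smul,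
      ← mul_smul, smul_add, mul_comm]

theorem rel_smul {y : Proj 𝒜} {v : GrMod.LocMod 𝒜 (M := M) y} {γ : F.presheaf.stalk y} (h : Rel ev hs1 y v γ)
    {V : (Proj 𝒜).Opens} (c : Γ(Proj 𝒜, V)) (hyV : y ∈ V) :
    Rel ev hs1 y (((show GrTwist.O (𝒜 := 𝒜) (op V) from c).1 ⟨y, hyV⟩).val • v)
      ((Proj 𝒜).presheaf.germ V y hyV c • γ) := by
  obtain ⟨g, hy, i, m, t, ht, rfl, e⟩ := h
  obtain ⟨W, hyW, iW, k, b, u, hu, hc⟩ := (show GrTwist.O (𝒜 := 𝒜) (op V) from c).2 ⟨y, hyV⟩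
  let W' : (Proj 𝒜).Opens := (show (Proj 𝒜).Opens from W) ⊓ Proj.basicOpen 𝒜 g.1
  have hW'V : W' ≤ V := inf_le_left.trans iW.le
  have key : res hW'V c * res (inf_le_right : W' ≤ _) (fr (hs1 g) u) = res (inf_le_right : W' ≤ _) (fr (hs1 g) b) := by
    refine section_ext_val fun x => ?_
    rw [mul_val, HomogeneousLocalization.val_mul, res_val, res_val, res_val, fr_val, fr_val]
    refine (congrArg (· * _) ((congrArg HomogeneousLocalization.val (hc ⟨x.1, x.2.1⟩)).trans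
      (HomogeneousLocalization.val_mk _))).trans ?_
    rw [Localization.mk_mul]
    exact Localization.mk_eq_mk_iff.2 (Localization.r_iff_exists.2 ⟨1, by simp; ring⟩)
  have hval : ((show GrTwist.O (𝒜 := 𝒜) (op V) from c).1 ⟨y, hyV⟩).val = Localization.mk b.1 ⟨u.1, hu ⟨y, hyW⟩⟩ :=
    (congrArg HomogeneousLocalization.val (hc ⟨y, hyW⟩)).trans (HomogeneousLocalization.val_mk _)
  have hk := congrArg ((Proj 𝒜).presheaf.germ W' y ⟨hyW, hy⟩) key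
  rw [map_mul, TopCat.Presheaf.germ_res_apply, TopCat.Presheaf.germ_res_apply, TopCat.Presheaf.germ_res_apply] at hk
  refine ⟨g, hy, k + i, ⟨b.1 • m.1, SetLike.GradedSMul.smul_mem b.2 m.2⟩,
    ⟨u.1 * t.1, SetLike.mul_mem_graded u.2 t.2⟩, fun hc => (y.isPrime.mem_or_mem hc).elim (hu ⟨y, hyW⟩) ht, ?_, ?_⟩
  · rw [hval, LocalizedModule.mk_smul_mk]
    rfl
  · rw [H.ev_smul, QCohLoc.germ_smul', ← e, ← hk, ← fr_mul, map_mul]
    simp only [← mul_smul]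
    congr 1
    ring

variable [DirectSum.Decomposition ℳ]

theorem existsUnique_section {U : (Proj 𝒜).Opens} (σ' : GrMod.sect 𝒜 ℳ 0 (op U)) :
    ∃! z : Γ(F, U), ∀ (y : Proj 𝒜) (hy : y ∈ U), Rel ev hs1 y (σ'.1 ⟨y, hy⟩).1 (F.presheaf.germ U y hy z) := by
  have hloc : ∀ y : U, ∃ (W : (Proj 𝒜).Opens) (hWU : W ≤ U) (z : Γ(F, W)), y.1 ∈ W ∧
      ∀ (w : Proj 𝒜) (hw : w ∈ W), Rel ev hs1 w (σ'.1 ⟨w, hWU hw⟩).1 (F.presheaf.germ W w hw z) := by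
    intro y
    obtain ⟨W, hyW, iW, i, j, m, t, nin, hd, hm⟩ := σ'.2 y
    obtain ⟨m', hm'⟩ : ∃ m' : ℳ j, m'.1 = m.1 := by
      rcases hd with hd | hd
      · have hij : i = j := by omega
        subst hij
        exact ⟨m, rfl⟩
      · exact ⟨0, by rw [hd, ZeroMemClass.coe_zero]⟩
    obtain ⟨g, hg⟩ := H.cover y.1
    let W' : (Proj 𝒜).Opens := (show (Proj 𝒜).Opens from W) ⊓ Proj.basicOpen 𝒜 g.1
    have hu : IsUnit (res (inf_le_right : W' ≤ _) (fr (hs1 g) t)) := by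
      have hle : W' ≤ (Proj 𝒜).basicOpen (fr (hs1 g) t) := by
        rw [basicOpen_fr]
        exact fun x hx => ⟨hx.2, nin ⟨x, hx.1⟩⟩
      have h := (RingedSpace.isUnit_res_basicOpen (Proj 𝒜).toLocallyRingedSpace.toRingedSpace
        (fr (hs1 g) t)).map (res hle)
      exact (res_res ((Proj 𝒜).basicOpen_le (fr (hs1 g) t)) hle (fr (hs1 g) t)) ▸ h
    refine ⟨W', inf_le_left.trans iW.le, (↑hu.unit⁻¹ : Γ(Proj 𝒜, W')) • resM F (inf_le_right : W' ≤ _) (ev g j m'),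
      ⟨hyW, hg⟩, fun w hw => ?_⟩
    refine ⟨g, hw.2, j, m', t, nin ⟨w, hw.1⟩, (hm ⟨w, hw.1⟩).trans (by rw [hm']), ?_⟩
    rw [QCohLoc.germ_smul', ← mul_smul, ← TopCat.Presheaf.germ_res_apply (Proj 𝒜).presheaf
      (homOfLE (inf_le_right : W' ≤ _)) w hw, ← map_mul, IsUnit.mul_val_inv, map_one, one_smul]
    exact TopCat.Presheaf.germ_res_apply F.presheaf (homOfLE (inf_le_right : W' ≤ _)) w hw _
  choose W hWU z hyW hz using hloc
  have hcov : U ≤ iSup W := fun y hy => Opens.mem_iSup.2 ⟨⟨y, hy⟩, hyW ⟨y, hy⟩⟩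
  obtain ⟨w, hw, -⟩ := TopCat.Sheaf.existsUnique_gluing' (⟨F.presheaf, F.isSheaf⟩ : TopCat.Sheaf Ab (Proj 𝒜).carrier)
    W U (fun y => homOfLE (hWU y)) hcov z fun a b => by
      refine TopCat.Presheaf.section_ext ⟨F.presheaf, F.isSheaf⟩ _ _ _ fun x hx => ?_
      exact (TopCat.Presheaf.germ_res_apply F.presheaf _ x hx _).trans
        ((germ_unique H (hz a x hx.1) (hz b x hx.2)).trans (TopCat.Presheaf.germ_res_apply F.presheaf _ x hx _).symm)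
  have hall : ∀ (y : Proj 𝒜) (hy : y ∈ U), Rel ev hs1 y (σ'.1 ⟨y, hy⟩).1 (F.presheaf.germ U y hy w) := by
    intro y hy
    obtain ⟨a, ha⟩ := Opens.mem_iSup.1 (hcov hy)
    rw [← TopCat.Presheaf.germ_res_apply F.presheaf (homOfLE (hWU a)) y ha w]
    exact (hw a) ▸ hz a y ha
  exact ⟨w, hall, fun w' hw' => TopCat.Presheaf.section_ext ⟨F.presheaf, F.isSheaf⟩ _ _ _ fun x hx =>
    germ_unique H (hw' x hx) (hall x hx)⟩

/-- `M~ ≅ F`. -/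
theorem nonempty_iso [Coh.IsQCoh F] : Nonempty (GrMod.tilde 𝒜 ℳ 0 ≅ F) := by
  choose app happ huniq using fun (U : (Proj 𝒜).Opens) (σ' : GrMod.sect 𝒜 ℳ 0 (op U)) => existsUnique_section H σ'
  have hadd : ∀ (U : (Proj 𝒜).Opens) (a b : GrMod.sect 𝒜 ℳ 0 (op U)), app U (a + b) = app U a + app U b :=
    fun U a b => (huniq U (a + b) _ fun y hy => by
      rw [map_add]
      exact rel_add H (happ U a y hy) (happ U b y hy)).symm
  have hsmul : ∀ (U : (Proj 𝒜).Opens) (c : Γ(Proj 𝒜, U)) (a : GrMod.sect 𝒜 ℳ 0 (op U)),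
      app U ((show GrTwist.O (𝒜 := 𝒜) (op U) from c) • a) = c • app U a := fun U c a =>
    (huniq U _ _ fun y hy => by
      rw [QCohLoc.germ_smul']
      exact rel_smul H (happ U a y hy) c hy).symm
  have hnat : ∀ {U V : (Proj 𝒜).Opens} (h : V ≤ U) (a : GrMod.sect 𝒜 ℳ 0 (op U)),
      app V (GrMod.res 𝒜 ℳ 0 (homOfLE h).op a) = resM F h (app U a) := fun {U V} h a =>
    (huniq V _ _ fun y hy => by
      rw [show F.presheaf.germ V y hy (resM F h (app U a)) = F.presheaf.germ U y (h hy) (app U a) from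
        TopCat.Presheaf.germ_res_apply F.presheaf (homOfLE h) y hy _]
      exact happ U a y (h hy)).symm
  have hbij : ∀ U, Function.Bijective (app U) := fun U => by
    refine ⟨fun a b hab => TwistLib.G.sect_ext fun x => val_unique H (happ U a x.1 x.2) (hab ▸ happ U b x.1 x.2),
      fun z => ?_⟩
    have hex : ∀ y : U, ∃ v : GrMod.LocMod 𝒜 (M := M) (show ProjectiveSpectrum 𝒜 from y.1),
        v ∈ GrMod.tildeAt 𝒜 ℳ 0 y.1 ∧ Rel ev hs1 y.1 v (F.presheaf.germ U y.1 y.2 z) := fun y => by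
      obtain ⟨W, hWV, g, hWg, i, m, t, hyW, ht, e⟩ := exists_rep H z y.2
      exact ⟨_, TwistLib.G.frac_mem_tildeAt 0 y.1 i i m t (ht _ hyW) (by simp),
        rel_of_rep H z hWV g hWg m t e hyW (ht _ hyW)⟩
    choose v hv hrel using hex
    refine ⟨⟨fun y => ⟨v y, hv y⟩, fun y => ?_⟩, (huniq U _ z fun y hy => hrel ⟨y, hy⟩).symm⟩
    obtain ⟨W, hWV, g, hWg, i, m, t, hyW, ht, e⟩ := exists_rep H z y.2
    exact ⟨W, hyW, homOfLE hWV, i, i, m, t, fun w => ht w.1 w.2, Or.inl (by simp),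
      fun w => val_unique H (hrel ⟨w.1, hWV w.2⟩) (rel_of_rep H z hWV g hWg m t e w.2 (ht w.1 w.2))⟩
  let φ₀ : (GrMod.tilde 𝒜 ℳ 0).val ⟶ F.val := PresheafOfModules.homMk
    { app := fun U => AddCommGrpCat.ofHom (AddMonoidHom.mk' (app U.unop) (hadd U.unop))
      naturality := fun U V f => ConcreteCategory.hom_ext _ _ fun x => hnat (leOfHom f.unop) x }
    (fun U r x => hsmul U.unop r x)
  let φ : GrMod.tilde 𝒜 ℳ 0 ⟶ F := ⟨φ₀⟩
  have : IsIso φ := by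
    rw [Scheme.Modules.Hom.isIso_iff_isIso_app]
    intro U
    rw [ConcreteCategory.isIso_iff_bijective]
    exact hbij U
  exact ⟨asIso φ⟩

end Groth.Agent.GStarLib
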