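import Groth.Agent.GStarLib.Gamma
import Groth.Agent.TwistLib.G.Inv
import Groth.Agent.AmpleLib.Twist
import Groth.Agent.Props12.FinLocFree

/-!
# Finite type modules on `Proj` are quotients of sums of negative twists
-/

set_option autoImplicit false
set_option linter.unusedSectionVars false
set_option backward.isDefEq.respectTransparency.types false
set_option maxHeartbeats 400000

universe u

open AlgebraicGeometry CategoryTheory CategoryTheory.Limits TopologicalSpace Opposite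
open Groth.Agent.Coherent Groth.Agent.PicLib Groth.Agent.AmpleLib

namespace Groth.Agent.GStarLib

variable {A σ : Type u} [CommRing A] [SetLike σ A] [AddSubgroupClass σ A] {𝒜 : ℕ → σ} [GradedRing 𝒜]

/-- `g ^ n` as a generator of `O(n)` on `D₊(g)`. -/
noncomputable def gen {g : A} (hg : g ∈ 𝒜 1) (n : ℤ) : Γ(GrTwist.twist 𝒜 (n * (1 : ℕ)), Proj.basicOpen 𝒜 g) :=
  TwistLib.G.tau hg n _ le_rfl

theorem isGen_gen {g : A} (hg : g ∈ 𝒜 1) (n : ℤ) :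
    IsGen (GrTwist.twist 𝒜 (n * (1 : ℕ))) (Proj.basicOpen 𝒜 g) (gen hg n) :=
  TwistLib.G.isGen_tau hg n

theorem gen_neg_change {g h : A} (hg : g ∈ 𝒜 1) (hh : h ∈ 𝒜 1) (n : ℕ) (W : (Proj 𝒜).Opens)
    (hWg : W ≤ Proj.basicOpen 𝒜 g) (hWh : W ≤ Proj.basicOpen 𝒜 h) :
    resM (GrTwist.twist 𝒜 (-(n : ℤ) * (1 : ℕ))) hWg (gen hg (-(n : ℤ))) =
      res hWg (fr hg (⟨h, hh⟩ : 𝒜 1)) ^ n • resM (GrTwist.twist 𝒜 (-(n : ℤ) * (1 : ℕ))) hWh (gen hh (-(n : ℤ))) := by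
  rw [← map_pow, fr_pow]
  refine TwistLib.G.sectN_ext fun y => ((TwistLib.G.tau_val hg _ _ le_rfl ⟨y.1, hWg y.2⟩).trans ?_)
  refine Eq.trans ?_ (GrTwist.coe_smul_val _ y.1 _ _).symm
  refine Eq.trans ?_ (congrArg₂ (· * ·) (fr_val hg _ ⟨y.1, hWg y.2⟩).symm
    (TwistLib.G.tau_val hh (-(n : ℤ)) _ le_rfl ⟨y.1, hWh y.2⟩).symm)
  rw [Localization.mk_mul]
  exact Localization.mk_eq_mk_iff.2 (Localization.r_iff_exists.2 ⟨1, by simp⟩)

theorem gen_pos_change {g h : A} (hg : g ∈ 𝒜 1) (hh : h ∈ 𝒜 1) (n : ℕ) (W : (Proj 𝒜).Opens)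
    (hWg : W ≤ Proj.basicOpen 𝒜 g) (hWh : W ≤ Proj.basicOpen 𝒜 h) :
    resM (GrTwist.twist 𝒜 ((n : ℤ) * (1 : ℕ))) hWh (gen hh (n : ℤ)) =
      res hWg (fr hg (⟨h, hh⟩ : 𝒜 1)) ^ n • resM (GrTwist.twist 𝒜 ((n : ℤ) * (1 : ℕ))) hWg (gen hg (n : ℤ)) := by
  rw [← map_pow, fr_pow]
  refine TwistLib.G.sectN_ext fun y => ((TwistLib.G.tau_val hh _ _ le_rfl ⟨y.1, hWh y.2⟩).trans ?_)
  refine Eq.trans ?_ (GrTwist.coe_smul_val _ y.1 _ _).symm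
  refine Eq.trans ?_ (congrArg₂ (· * ·) (fr_val hg _ ⟨y.1, hWg y.2⟩).symm
    (TwistLib.G.tau_val hg (n : ℤ) _ le_rfl ⟨y.1, hWg y.2⟩).symm)
  rw [Localization.mk_mul]
  exact Localization.mk_eq_mk_iff.2 (Localization.r_iff_exists.2 ⟨1, by simp; ring⟩)

variable {F : (Proj 𝒜).Modules} [Coh.IsQCoh F] {s : Set A} [Finite s] {hs1 : ∀ g : s, g.1 ∈ 𝒜 1}

/-- From some degree on finitely many homogeneous elements give generators on each standard open. -/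
theorem eventually_generators (hFT : CohB1.IsFT F) (hcov : ∀ x : Proj 𝒜, ∃ g : s, x ∈ Proj.basicOpen 𝒜 g.1) :
    ∃ n₀ : ℕ, ∀ n, n₀ ≤ n → ∃ (k : ℕ) (p : ULift.{u} (Fin k) → grade F hs1 n),
      ∀ g : s, GenOn F (Proj.basicOpen 𝒜 g.1) fun i => ev F hs1 g n (p i) := by
  classical
  cases nonempty_fintype s
  have H := isGammaDatum (F := F) (hs1 := hs1) hcov
  have hfin : ∀ g : s, Module.Finite Γ(Proj 𝒜, Proj.basicOpen 𝒜 g.1) Γ(F, Proj.basicOpen 𝒜 g.1) := fun g =>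
    finite_sections F (locallyFinGen_of_isFT F hFT) (Proj.isAffineOpen_basicOpen 𝒜 g.1 (hs1 g) one_pos)
  choose W hW using fun g : s => (hfin g).fg_top
  choose N m hm using fun (g : s) (w : W g) => H.surj g w.1
  refine ⟨Finset.univ.sup fun g => Finset.univ.sup (N g), fun n hn => ?_⟩
  let J := Σ g : s, {w // w ∈ W g}
  have hN : ∀ x : J, N x.1 x.2 ≤ n := fun x =>
    ((Finset.le_sup (f := N x.1) (Finset.mem_univ x.2)).trans
      (Finset.le_sup (f := fun g => Finset.univ.sup (N g)) (Finset.mem_univ x.1))).trans hn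
  let q : J → grade F hs1 n := fun x => ⟨x.1.1 ^ (n - N x.1 x.2) • (m x.1 x.2).1, by
    have h := SetLike.GradedSMul.smul_mem (B := grade F hs1)
      (show x.1.1 ^ (n - N x.1 x.2) ∈ 𝒜 (n - N x.1 x.2) from by simpa using TwistLib.G.pow_mem_deg (hs1 x.1) _)
      (m x.1 x.2).2
    rwa [vadd_eq_add, Nat.sub_add_cancel (hN x)] at h⟩
  refine ⟨Fintype.card J, fun i => q ((Fintype.equivFin J).symm i.down), fun g => ?_⟩
  refine genOn_of_span_top F (Proj.isAffineOpen_basicOpen 𝒜 g.1 (hs1 g) one_pos) _ (eq_top_iff.2 ?_)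
  rw [← hW g]
  refine Submodule.span_le.2 fun w hw => Submodule.subset_span ⟨⟨Fintype.equivFin J ⟨g, w, hw⟩⟩, ?_⟩
  simp only [Equiv.symm_apply_apply]
  have hpow : g.1 ^ (n - N g ⟨w, hw⟩) ∈ 𝒜 (n - N g ⟨w, hw⟩) := by simpa using TwistLib.G.pow_mem_deg (hs1 g) _
  refine (ev_cast (ev := ev F hs1) (g := g) _ (⟨g.1 ^ (n - N g ⟨w, hw⟩) • (m g ⟨w, hw⟩).1,
    SetLike.GradedSMul.smul_mem hpow (m g ⟨w, hw⟩).2⟩ : grade F hs1 (n - N g ⟨w, hw⟩ + N g ⟨w, hw⟩))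
    (Nat.sub_add_cancel (hN ⟨g, w, hw⟩)).symm rfl).trans ?_
  rw [H.ev_smul g _ _ ⟨_, hpow⟩ (m g ⟨w, hw⟩), fr_self_pow, one_smul]
  exact hm g ⟨w, hw⟩

variable (hs1)
include hs1

theorem exists_hom_neg_twist (hcov : ∀ x : Proj 𝒜, ∃ g : s, x ∈ Proj.basicOpen 𝒜 g.1) {n : ℕ} (p : grade F hs1 n) :
    ∃ φ : GrTwist.twist 𝒜 (-(n : ℤ) * (1 : ℕ)) ⟶ F,
      ∀ g : s, φ.app (Proj.basicOpen 𝒜 g.1) (gen (hs1 g) (-(n : ℤ))) = ev F hs1 g n p := by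
  refine exists_hom_of_gen (fun g : s => Proj.basicOpen 𝒜 g.1)
    (eq_top_iff.2 fun x _ => Opens.mem_iSup.2 (hcov x)) _ (fun g => isGen_gen (hs1 g) _) _ ?_
  intro g h W hg hh c hc
  rw [gen_neg_change (hs1 g) (hs1 h) n W hg hh] at hc
  rw [← ((isGen_gen (hs1 h) _) W hh).1 hc]
  exact (p.1.2 n g h W hg hh).symm

/-- `F` is a quotient of a finite sum of copies of `O(-n)`. -/
theorem eventually_epi_neg_twists (hFT : CohB1.IsFT F) (hcov : ∀ x : Proj 𝒜, ∃ g : s, x ∈ Proj.basicOpen 𝒜 g.1) :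
    ∃ n₀ : ℕ, ∀ n : ℕ, n₀ ≤ n →
      ∃ (k : ℕ) (p : (∐ fun _ : Fin k => GrTwist.twist 𝒜 (-(n : ℤ))) ⟶ F), Epi p := by
  classical
  obtain ⟨n₀, hn₀⟩ := eventually_generators (hs1 := hs1) hFT hcov
  refine ⟨n₀, fun n hn => ?_⟩
  obtain ⟨k, p, hp⟩ := hn₀ n hn
  choose φ hφ using fun i : Fin k => exists_hom_neg_twist hs1 hcov (p ⟨i⟩)
  have e : GrTwist.twist 𝒜 (-(n : ℤ)) = GrTwist.twist 𝒜 (-(n : ℤ) * (1 : ℕ)) := by simp
  rw [e]
  refine ⟨k, Sigma.desc φ, epi_of_locally_surjective _ fun W a y hy => ?_⟩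
  obtain ⟨g, hg⟩ := hcov y
  obtain ⟨W', hle, hyW', c, hc⟩ := hp g (W ⊓ Proj.basicOpen 𝒜 g.1) inf_le_right (resM F inf_le_left a) y ⟨hy, hg⟩
  refine ⟨W', hle.trans inf_le_left, hyW', ∑ i : Fin k, c ⟨i⟩ • (Sigma.ι (fun _ : Fin k => GrTwist.twist 𝒜
    (-(n : ℤ) * (1 : ℕ))) i).app W' (resM _ (hle.trans inf_le_right) (gen (hs1 g) (-(n : ℤ)))), ?_⟩
  rw [← resM_resM F (inf_le_left : W ⊓ Proj.basicOpen 𝒜 g.1 ≤ W) hle a, hc, map_sum,
    ← (Equiv.ulift.{u}).symm.sum_comp]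
  refine Finset.sum_congr rfl fun i _ => ?_
  rw [Scheme.Modules.Hom.app_smul, ← ConcreteCategory.comp_apply, ← Scheme.Modules.Hom.comp_app, Sigma.ι_desc,
    app_resM, hφ i g]
  rfl

/-- `F(n)` is a quotient of a finite free module for large `n`. -/
theorem eventually_epi_free_tensor_twist (hFT : CohB1.IsFT F) (hcov : ∀ x : Proj 𝒜, ∃ g : s, x ∈ Proj.basicOpen 𝒜 g.1) :
    ∃ n₀ : ℕ, ∀ n : ℕ, n₀ ≤ n →
      ∃ (k : ℕ) (p : FlatMod.freeMod (Proj 𝒜) k ⟶ CohB1.tensorMod F (GrTwist.twist 𝒜 (n : ℤ))), Epi p := by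
  classical
  obtain ⟨n₀, hn₀⟩ := eventually_generators (hs1 := hs1) hFT hcov
  refine ⟨n₀, fun n hn => ?_⟩
  obtain ⟨k, p, hp⟩ := hn₀ n hn
  have e : GrTwist.twist 𝒜 (n : ℤ) = GrTwist.twist 𝒜 ((n : ℤ) * (1 : ℕ)) := by simp
  rw [e]
  let T := CohB1.tensorMod F (GrTwist.twist 𝒜 ((n : ℤ) * (1 : ℕ)))
  let loc : ∀ (i : ULift.{u} (Fin k)) (g : s), Γ(T, Proj.basicOpen 𝒜 g.1) := fun i g =>
    tmul (ev F hs1 g n (p i)) (gen (hs1 g) (n : ℤ))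
  have hsup : (⊤ : (Proj 𝒜).Opens) ≤ ⨆ g : s, Proj.basicOpen 𝒜 g.1 := fun x _ => Opens.mem_iSup.2 (hcov x)
  have hglue : ∀ i, ∃ z : Γ(T, ⊤), ∀ g : s, resM T le_top z = loc i g := fun i =>
    (TopCat.Sheaf.existsUnique_gluing' (⟨T.presheaf, T.isSheaf⟩ : TopCat.Sheaf Ab (Proj 𝒜).carrier)
      (fun g : s => Proj.basicOpen 𝒜 g.1) ⊤ (fun g => homOfLE le_top) hsup (loc i) fun g h => by
        show resM T (inf_le_left : Proj.basicOpen 𝒜 g.1 ⊓ Proj.basicOpen 𝒜 h.1 ≤ _) (tmul _ _) =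
          resM T inf_le_right (tmul _ _)
        have hch : res (inf_le_left : Proj.basicOpen 𝒜 g.1 ⊓ Proj.basicOpen 𝒜 h.1 ≤ _)
            (fr (hs1 g) (⟨h.1, hs1 h⟩ : 𝒜 1)) ^ n • resM F inf_le_right (ev F hs1 h n (p i)) =
            resM F inf_le_left (ev F hs1 g n (p i)) := (p i).1.2 n g h _ inf_le_left inf_le_right
        rw [resM_tmul, resM_tmul, ← hch, gen_pos_change (hs1 g) (hs1 h) n _ inf_le_left inf_le_right, tmul_smul_left, tmul_smul_right]).exists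
  choose z hz using hglue
  refine ⟨k, (Props12.freeModIso (Proj 𝒜) k).inv ≫ freeDesc (fun i => unitDesc T (z i)), ?_⟩
  have : Epi (freeDesc fun i => unitDesc T (z i)) := by
    refine epi_of_genOn_top fun W hW a y hy => ?_
    obtain ⟨g, hg⟩ := hcov y
    obtain ⟨x₀, hx₀⟩ := (bijective_tmul_gen (M := F) (isGen_gen (hs1 g) (n : ℤ)) (W ⊓ Proj.basicOpen 𝒜 g.1)
      inf_le_right).2 (resM T inf_le_left a)
    obtain ⟨W', hle, hyW', c, hc⟩ := hp g (W ⊓ Proj.basicOpen 𝒜 g.1) inf_le_right x₀ y ⟨hy, hg⟩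
    refine ⟨W', hle.trans inf_le_left, hyW', c, ?_⟩
    rw [← resM_resM T (inf_le_left : W ⊓ Proj.basicOpen 𝒜 g.1 ≤ W) hle a, ← hx₀]
    show resM T hle (tmul _ _) = _
    rw [resM_tmul, hc, resM_resM]
    let Φ : Γ(F, W') →+ Γ(T, W') :=
      AddMonoidHom.mk' (fun x => tmul x (resM _ (hle.trans inf_le_right) (gen (hs1 g) (n : ℤ))))
        fun x y => tmul_add_left x y _
    show Φ _ = _
    rw [map_sum]
    refine Finset.sum_congr rfl fun i _ => ?_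
    show tmul (_ • _) _ = _
    rw [tmul_smul_left, ← resM_resM T (le_top : Proj.basicOpen 𝒜 g.1 ≤ ⊤) (hle.trans inf_le_right) (z i), hz i g]
    show _ = _ • resM T _ (tmul _ _)
    rw [resM_tmul]
  exact @epi_comp (Proj 𝒜).Modules _ _ _ _ _ inferInstance _ this

end Groth.Agent.GStarLib
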